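import Mathlib.GroupTheory.Sylow
import Mathlib.GroupTheory.Index
import Cfsg.Agent.H50.Basic

/-!
Sylow theorems for subgroups of an ambient group, phrased with `relIndex` (helper50).
"`Q` is a Sylow `p`-subgroup of `K`" is rendered by `Q ≤ K`, `IsPGroup p Q`, `¬ p ∣ Q.relIndex K`.
-/

set_option autoImplicit false

namespace Cfsg.Agent.H50

variable {G : Type*} [Group G]

/-- Ambient Sylow theorem: a `p`-subgroup of `K` is conjugate under `K` into a given Sylow `p`-subgroup of `K`. -/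
theorem exists_conj_le {p : ℕ} [Fact p.Prime] [Finite G] {K Q₁ Q₂ : Subgroup G} (h₁ : Q₁ ≤ K) (_h₂ : Q₂ ≤ K)
    (hp₁ : IsPGroup p ↥Q₁) (hp₂ : IsPGroup p ↥Q₂) (hi : ¬ p ∣ Q₂.relIndex K) :
    ∃ k ∈ K, Q₁.map (MulAut.conj k).toMonoidHom ≤ Q₂ := by
  have hp₁' : IsPGroup p ↥(Q₁.subgroupOf K) :=
    hp₁.comap_of_injective K.subtype K.subtype_injective
  have hp₂' : IsPGroup p ↥(Q₂.subgroupOf K) :=
    hp₂.comap_of_injective K.subtype K.subtype_injective
  obtain ⟨S, hS⟩ := hp₁'.exists_le_sylow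
  let T : Sylow p ↥K := hp₂'.toSylow hi
  obtain ⟨k, hk⟩ := MulAction.exists_smul_eq ↥K S T
  refine ⟨k, k.2, ?_⟩
  rintro _ ⟨x, hx, rfl⟩
  have hxS : (⟨x, h₁ hx⟩ : ↥K) ∈ (S : Subgroup ↥K) := hS (Subgroup.mem_subgroupOf.2 hx)
  have h2 : k * ⟨x, h₁ hx⟩ * k⁻¹ ∈ (T : Subgroup ↥K) := by
    rw [← hk]
    exact ⟨⟨x, h₁ hx⟩, hxS, rfl⟩
  exact Subgroup.mem_subgroupOf.1 h2

/-- Any `p`-subgroup of `K` lies in a Sylow `p`-subgroup of `K`. -/
theorem exists_sylowIn_ge {p : ℕ} [Fact p.Prime] [Finite G] {K Q : Subgroup G} (h : Q ≤ K)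
    (hp : IsPGroup p ↥Q) :
    ∃ S : Subgroup G, Q ≤ S ∧ S ≤ K ∧ IsPGroup p ↥S ∧ ¬ p ∣ S.relIndex K := by
  have hp' : IsPGroup p ↥(Q.subgroupOf K) :=
    hp.comap_of_injective K.subtype K.subtype_injective
  obtain ⟨S, hS⟩ := hp'.exists_le_sylow
  refine ⟨(S : Subgroup ↥K).map K.subtype, ?_, Subgroup.map_subtype_le _, S.isPGroup'.map _, ?_⟩
  · intro x hx
    exact ⟨⟨x, h hx⟩, hS (Subgroup.mem_subgroupOf.2 hx), rfl⟩
  · have h1 := S.not_dvd_index
    have h2 : ((S : Subgroup ↥K).map K.subtype).relIndex K = (S : Subgroup ↥K).index := by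
      rw [Subgroup.relIndex, Subgroup.subgroupOf,
        Subgroup.comap_map_eq_self_of_injective K.subtype_injective]
    rwa [h2]

/-- `|P N : P| = |N : P ∩ N|` for normal `N`. -/
theorem relIndex_sup_normal [Finite G] (P N : Subgroup G) [N.Normal] :
    P.relIndex (P ⊔ N) = P.relIndex N := by
  have h1 : (P ⊓ N).relIndex P * P.relIndex (P ⊔ N) = (P ⊓ N).relIndex (P ⊔ N) :=
    Subgroup.relIndex_mul_relIndex _ _ _ inf_le_left le_sup_left
  have h2 : (P ⊓ N).relIndex N * N.relIndex (P ⊔ N) = (P ⊓ N).relIndex (P ⊔ N) :=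
    Subgroup.relIndex_mul_relIndex _ _ _ inf_le_right le_sup_right
  rw [Subgroup.inf_relIndex_left] at h1
  rw [Subgroup.inf_relIndex_right, Subgroup.relIndex_sup_right] at h2
  have h3 : N.relIndex P ≠ 0 := Subgroup.index_ne_zero_of_finite
  have h4 : N.relIndex P * P.relIndex (P ⊔ N) = N.relIndex P * P.relIndex N := by
    rw [h1, ← h2, mul_comm]
  exact Nat.eq_of_mul_eq_mul_left (Nat.pos_of_ne_zero h3) h4

/-- A Sylow subgroup meets a normal subgroup in a Sylow subgroup. -/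
theorem not_dvd_relIndex_normal {p : ℕ} [Finite G] {P N : Subgroup G} [N.Normal]
    (h : ¬ p ∣ P.index) : ¬ p ∣ P.relIndex N := by
  rw [← relIndex_sup_normal P N]
  exact fun hd => h (hd.trans (Subgroup.relIndex_dvd_index_of_le le_sup_left))

/-- A subgroup containing a Sylow subgroup has index prime to `p`. -/
theorem not_dvd_relIndex_of_le {p : ℕ} {P K : Subgroup G} (hPK : P ≤ K)
    (h : ¬ p ∣ P.index) : ¬ p ∣ P.relIndex K :=
  fun hd => h (hd.trans (Subgroup.relIndex_dvd_index_of_le hPK))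

end Cfsg.Agent.H50
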