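import Mathlib.GroupTheory.Sylow
import Mathlib.GroupTheory.IndexNormal
import Mathlib.FieldTheory.Finite.Basic
import Cfsg.Agent.H50.SylowIn
import Cfsg.Agent.BG.OmegaOdd
import Cfsg.Agent.SigF.Coprime

/-!
Elements normalizing `p`-subgroups, `p` the smallest prime divisor.  (helper50)
-/

set_option autoImplicit false
open scoped commutatorElement

namespace Cfsg.Agent.H50

open Subgroup

variable {G : Type*} [Group G] [Finite G]

/-- Subgroups of prescribed order between two `p`-subgroups. -/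
theorem exists_between {p k : ℕ} [Fact p.Prime] {A B : Subgroup G} (hB : IsPGroup p ↥B) (hAB : A ≤ B)
    (hA : Nat.card A ≤ p ^ k) (hkB : p ^ k ≤ Nat.card B) :
    ∃ K : Subgroup G, A ≤ K ∧ K ≤ B ∧ Nat.card K = p ^ k := by
  have hp : p.Prime := Fact.out
  obtain ⟨m, hm⟩ := hB.exists_card_eq
  obtain ⟨n, hn⟩ := (hB.to_le hAB).exists_card_eq
  have hnk : n ≤ k := by
    rw [hn] at hA
    exact (Nat.pow_le_pow_iff_right hp.one_lt).1 hA
  have hkm : k ≤ m := by
    rw [hm] at hkB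
    exact (Nat.pow_le_pow_iff_right hp.one_lt).1 hkB
  obtain ⟨K, hK, hAK⟩ := Sylow.exists_subgroup_card_pow_prime_le p (G := ↥B) (n := n) (m := k)
    (by rw [hm]; exact pow_dvd_pow p hkm) (A.subgroupOf B) (by
      rw [← hn]
      exact Nat.card_congr (subgroupOfEquivOfLe hAB).toEquiv) hnk
  refine ⟨K.map B.subtype, ?_, map_subtype_le K, ?_⟩
  · intro x hx
    exact ⟨⟨x, hAB hx⟩, hAK (mem_subgroupOf.2 hx), rfl⟩
  · rw [card_map_of_injective B.subtype_injective, hK]

/-- A finite cyclic group has at most one subgroup of each order. -/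
theorem eq_of_card_eq_of_cyclic {C : Type*} [Group C] [Finite C] [IsCyclic C] {X Y : Subgroup C}
    (h : Nat.card X = Nat.card Y) : X = Y := by
  classical
  have : Fintype C := Fintype.ofFinite C
  have key : ∀ Z : Subgroup C, Nat.card Z = Nat.card X →
      (Z : Set C) = {a : C | a ^ Nat.card X = 1} := by
    intro Z hZ
    apply Set.eq_of_subset_of_ncard_le
    · intro a ha
      show a ^ Nat.card X = 1
      rw [← hZ]
      have := pow_card_eq_one' (x := (⟨a, ha⟩ : Z))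
      exact congrArg (Subtype.val) this
    · have h1 := IsCyclic.card_pow_eq_one_le (α := C) (n := Nat.card X) Nat.card_pos
      have h2 : ({a : C | a ^ Nat.card X = 1} : Set C).ncard ≤ Nat.card X := by
        rw [Set.ncard_eq_toFinset_card']
        refine le_trans (le_of_eq ?_) h1
        congr 1
        ext a
        simp
      refine h2.trans ?_
      rw [← hZ]
      exact le_of_eq (Nat.card_coe_set_eq _)
    · exact Set.toFinite _
  exact SetLike.coe_injective ((key X rfl).trans (key Y h.symm).symm)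

/-- A subgroup of index `p` in a `p`-group is normal. -/
theorem le_normalizer_of_relIndex {p : ℕ} [Fact p.Prime] {L Q : Subgroup G} (hQ : IsPGroup p ↥Q)
    (hLQ : L ≤ Q) (h : L.relIndex Q = p) : Q ≤ normalizer (L : Set G) := by
  have hp : p.Prime := Fact.out
  rw [← normal_subgroupOf_iff_le_normalizer hLQ]
  have h1 : (L.subgroupOf Q).index = (Nat.card Q).minFac := by
    obtain ⟨m, hm⟩ := hQ.exists_card_eq
    have hm0 : m ≠ 0 := by
      intro h0
      rw [h0, pow_zero] at hm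
      have : L.relIndex Q ∣ Nat.card Q := index_dvd_card _
      rw [h, hm] at this
      exact hp.one_lt.ne' (Nat.dvd_one.1 this)
    rw [hm, Nat.Prime.pow_minFac hp hm0]
    exact h
  exact normal_of_index_eq_minFac_card h1

/-- Every proper subgroup of a `p`-group is contained in a subgroup of index `p`. -/
theorem exists_index_p_ge {p : ℕ} [Fact p.Prime] {C Q : Subgroup G} (hQ : IsPGroup p ↥Q)
    (hCQ : C ≤ Q) (hne : C ≠ Q) : ∃ M : Subgroup G, C ≤ M ∧ M ≤ Q ∧ M.relIndex Q = p := by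
  have hp : p.Prime := Fact.out
  obtain ⟨m, hm⟩ := hQ.exists_card_eq
  obtain ⟨n, hn⟩ := (hQ.to_le hCQ).exists_card_eq
  have hlt : Nat.card C < Nat.card Q := by
    by_contra hcon
    exact hne (Subgroup.eq_of_le_of_card_ge hCQ (not_lt.1 hcon))
  have hnm : n < m := by
    rw [hn, hm] at hlt
    exact (Nat.pow_lt_pow_iff_right hp.one_lt).1 hlt
  obtain ⟨m', rfl⟩ : ∃ m', m = m' + 1 := ⟨m - 1, by omega⟩
  obtain ⟨K, h1, h2, h3⟩ := exists_between (k := m') hQ hCQ
    (by rw [hn]; exact Nat.pow_le_pow_right hp.pos (by omega))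
    (by rw [hm]; exact Nat.pow_le_pow_right hp.pos (by omega))
  refine ⟨K, h1, h2, ?_⟩
  have h4 : Nat.card K * K.relIndex Q = Nat.card Q := by
    have := Subgroup.relIndex_mul_relIndex ⊥ K Q bot_le h2
    rwa [Subgroup.relIndex_bot_left, Subgroup.relIndex_bot_left] at this
  rw [h3, hm, pow_succ] at h4
  exact Nat.eq_of_mul_eq_mul_left (pow_pos hp.pos m') h4

omit [Finite G] in
/-- If every prime divisor of `|G|` is at least `p` then element orders are prime to `p - 1`. -/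
theorem orderOf_coprime_pred {p : ℕ} [Fact p.Prime]
    (hmin : ∀ q : ℕ, q.Prime → q ∣ Nat.card G → p ≤ q) (n : G) : (orderOf n).Coprime (p - 1) := by
  have hp : p.Prime := Fact.out
  apply Nat.Coprime.symm
  apply Nat.coprime_of_dvd
  intro r hr h1 h2
  have h3 := hmin r hr (h2.trans (orderOf_dvd_natCard n))
  have h4 := Nat.le_of_dvd (by have := hp.two_le; omega) h1
  have := hp.two_le
  omega

/-- An element normalizing `Q` and `L ≤ Q` with `|Q : L| = p` acts trivially on `Q / L`. -/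
theorem conj_inv_mul_mem {p : ℕ} [Fact p.Prime]
    (hmin : ∀ q : ℕ, q.Prime → q ∣ Nat.card G → p ≤ q) {Q L : Subgroup G} (hLQ : L ≤ Q)
    (hL : Q ≤ normalizer (L : Set G)) (hi : L.relIndex Q = p) {n : G}
    (hnQ : n ∈ normalizer (Q : Set G)) (hnL : n ∈ normalizer (L : Set G)) {x : G} (hx : x ∈ Q) :
    x⁻¹ * (n * x * n⁻¹) ∈ L := by
  have hp : p.Prime := Fact.out
  have hconjQ : ∀ y ∈ Q, n * y * n⁻¹ ∈ Q := fun y hy => (mem_normalizer_iff.1 hnQ y).1 hy
  have hconjL : ∀ y ∈ L, n * y * n⁻¹ ∈ L := fun y hy => (mem_normalizer_iff.1 hnL y).1 hy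
  by_cases hxL : x ∈ L
  · exact L.mul_mem (L.inv_mem hxL) (hconjL x hxL)
  have hnorm : (L.subgroupOf Q).Normal := by
    rwa [normal_subgroupOf_iff_le_normalizer hLQ]
  set π := QuotientGroup.mk' (L.subgroupOf Q) with hπ
  have hcard : Nat.card (Q ⧸ L.subgroupOf Q) = p := hi
  have hker : ∀ y : Q, π y = 1 ↔ (y : G) ∈ L := by
    intro y
    rw [← MonoidHom.mem_ker, hπ, QuotientGroup.ker_mk', mem_subgroupOf]
  have hπx : π ⟨x, hx⟩ ≠ 1 := by
    rw [Ne, hker]
    exact hxL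
  -- every element is a power of `π x`
  have hpow : ∀ y : Q ⧸ L.subgroupOf Q, ∃ k : ℕ, π ⟨x, hx⟩ ^ k = y := by
    intro y
    exact (Submonoid.mem_powers_iff _ _).1 (mem_powers_of_prime_card hcard hπx)
  obtain ⟨k, hk⟩ := hpow (π ⟨n * x * n⁻¹, hconjQ x hx⟩)
  have hstep : ∀ y (hy : y ∈ Q), π ⟨n * y * n⁻¹, hconjQ y hy⟩ = π ⟨y, hy⟩ ^ k := by
    intro y hy
    obtain ⟨i, hi⟩ := hpow (π ⟨y, hy⟩)
    have h1 : x ^ i * (x ^ i)⁻¹ * y = y := by group
    have hl : (x ^ i)⁻¹ * y ∈ L := by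
      have h2 : (⟨x, hx⟩ ^ i : Q)⁻¹ * ⟨y, hy⟩ ∈ L.subgroupOf Q := by
        rw [← QuotientGroup.ker_mk' (L.subgroupOf Q), MonoidHom.mem_ker, ← hπ, map_mul, map_inv,
          map_pow, hi, inv_mul_cancel]
      exact mem_subgroupOf.1 h2
    have h3 : π ⟨n * y * n⁻¹, hconjQ y hy⟩ = π (⟨n * x * n⁻¹, hconjQ x hx⟩ ^ i) := by
      have h4 : (⟨n * y * n⁻¹, hconjQ y hy⟩ : Q) = ⟨n * x * n⁻¹, hconjQ x hx⟩ ^ i *
          ⟨n * ((x ^ i)⁻¹ * y) * n⁻¹, hLQ (hconjL _ hl)⟩ := by
        apply Subtype.ext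
        show n * y * n⁻¹ = ((⟨n * x * n⁻¹, hconjQ x hx⟩ ^ i : Q) : G) * (n * ((x ^ i)⁻¹ * y) * n⁻¹)
        rw [SubmonoidClass.coe_pow, conj_pow]
        group
      have h5 : π ⟨n * ((x ^ i)⁻¹ * y) * n⁻¹, hLQ (hconjL _ hl)⟩ = 1 := (hker _).2 (hconjL _ hl)
      rw [h4, map_mul, h5, mul_one]
    rw [h3, map_pow, ← hk, ← pow_mul, mul_comm k i, pow_mul, hi]
  have hmem : ∀ j : ℕ, n ^ j * x * (n ^ j)⁻¹ ∈ Q := fun j =>
    (mem_normalizer_iff.1 ((normalizer (Q : Set G)).pow_mem hnQ j) x).1 hx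
  have hiter : ∀ j : ℕ, π ⟨n ^ j * x * (n ^ j)⁻¹, hmem j⟩ = π ⟨x, hx⟩ ^ (k ^ j) := by
    intro j
    induction j with
    | zero => simp
    | succ j ih =>
      have h1 : (⟨n ^ (j + 1) * x * (n ^ (j + 1))⁻¹, hmem (j + 1)⟩ : Q) =
          ⟨n * (n ^ j * x * (n ^ j)⁻¹) * n⁻¹, hconjQ _ (hmem j)⟩ := by
        apply Subtype.ext
        show n ^ (j + 1) * x * (n ^ (j + 1))⁻¹ = n * (n ^ j * x * (n ^ j)⁻¹) * n⁻¹
        rw [pow_succ']; group
      rw [h1, hstep _ (hmem j), ih, ← pow_mul, ← pow_succ]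
  have hord : π ⟨x, hx⟩ = π ⟨x, hx⟩ ^ (k ^ orderOf n) := by
    rw [← hiter]
    congr 1
    apply Subtype.ext
    simp [pow_orderOf_eq_one]
  have hopi : orderOf (π ⟨x, hx⟩) = p := by
    apply orderOf_eq_prime _ hπx
    rw [← hcard]
    exact pow_card_eq_one'
  -- conclude `k ≡ 1 mod p`
  have hk1 : ((k : ZMod p)) ^ orderOf n = 1 := by
    have h1 : π ⟨x, hx⟩ ^ 1 = π ⟨x, hx⟩ ^ (k ^ orderOf n) := by rw [pow_one]; exact hord
    rw [pow_eq_pow_iff_modEq, hopi] at h1
    have h2 := (ZMod.natCast_eq_natCast_iff _ _ _).2 h1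
    push_cast at h2
    exact h2.symm
  have hkne : (k : ZMod p) ≠ 0 := by
    intro h0
    rw [h0, zero_pow (orderOf_pos n).ne'] at hk1
    exact zero_ne_one hk1
  have hk2 : ((k : ZMod p)) ^ (p - 1) = 1 := ZMod.pow_card_sub_one_eq_one hkne
  have hk3 : (k : ZMod p) = 1 := by
    have h1 := orderOf_dvd_of_pow_eq_one hk1
    have h2 := orderOf_dvd_of_pow_eq_one hk2
    exact orderOf_eq_one_iff.1 (Nat.eq_one_of_dvd_coprimes (orderOf_coprime_pred hmin n) h1 h2)
  have hfin : π ⟨n * x * n⁻¹, hconjQ x hx⟩ = π ⟨x, hx⟩ := by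
    rw [← hk]
    conv_rhs => rw [← pow_one (π ⟨x, hx⟩)]
    rw [pow_eq_pow_iff_modEq, hopi]
    have : ((k : ℕ) : ZMod p) = ((1 : ℕ) : ZMod p) := by rw [hk3]; simp
    exact (ZMod.natCast_eq_natCast_iff _ _ _).1 this
  have h5 : (⟨x, hx⟩ : Q)⁻¹ * ⟨n * x * n⁻¹, hconjQ x hx⟩ ∈ L.subgroupOf Q := by
    rw [← QuotientGroup.ker_mk' (L.subgroupOf Q), MonoidHom.mem_ker, ← hπ, map_mul, map_inv, hfin,
      inv_mul_cancel]
  exact mem_subgroupOf.1 h5

/-- An `r`-element normalizing `Q` and all its subgroups of index `p` centralizes `Q`. -/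
theorem centralizes_of_maximal {p r : ℕ} [Fact p.Prime] [Fact r.Prime] (hrp : r ≠ p)
    (hmin : ∀ q : ℕ, q.Prime → q ∣ Nat.card G → p ≤ q) {Q : Subgroup G} (hQ : IsPGroup p ↥Q)
    {n : G} (hr : IsPGroup r ↥(zpowers n)) (hnQ : n ∈ normalizer (Q : Set G))
    (hM : ∀ M ≤ Q, M.relIndex Q = p → n ∈ normalizer (M : Set G)) :
    ∀ x ∈ Q, n * x = x * n := by
  have hp : p.Prime := Fact.out
  have hr' : r.Prime := Fact.out
  set C := Q ⊓ centralizer ({n} : Set G) with hC
  by_cases hCQ : C = Q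
  · intro x hx
    rw [← hCQ] at hx
    exact (mem_centralizer_singleton_iff.1 hx.2).symm
  exfalso
  obtain ⟨M, hCM, hMQ, hMi⟩ := exists_index_p_ge hQ inf_le_left hCQ
  have hQM := le_normalizer_of_relIndex hQ hMQ hMi
  have hnM := hM M hMQ hMi
  apply hCQ
  have hne : M ≠ Q := by
    intro h
    rw [h, relIndex_self] at hMi
    exact hp.one_lt.ne hMi
  exfalso
  apply hne
  apply le_antisymm hMQ
  intro x hx
  obtain ⟨y, hy1, hy2⟩ := SigF.exists_fixed_coset (p := r) (A := zpowers n) (D := M) hr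
    (by
      intro hd
      obtain ⟨k, hk⟩ := (hQ.to_le hMQ).exists_card_eq
      rw [hk] at hd
      exact hrp ((Nat.prime_dvd_prime_iff_eq hr' hp).1 (hr'.dvd_of_dvd_pow hd)))
    (by rwa [zpowers_le]) (x := x) (fun a ha => by
      have ha1 : a ∈ normalizer (Q : Set G) := (zpowers_le.2 hnQ) ha
      have ha2 : a ∈ normalizer (M : Set G) := (zpowers_le.2 hnM) ha
      exact conj_inv_mul_mem hmin hMQ hQM hMi ha1 ha2 hx)
  have hyQ : y ∈ Q := by
    have := Q.mul_mem hx (hMQ hy1)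
    simpa using this
  have hyC : y ∈ M := hCM ⟨hyQ, mem_centralizer_singleton_iff.2 (hy2 n (mem_zpowers n)).symm⟩
  have := M.mul_mem hyC (M.inv_mem hy1)
  simpa using this

/-- A `2'`-group centralizing all elements of order dividing 4 of a 2-group centralizes it. -/
theorem le_centralizer_of_omega2 (A : Subgroup G) (hcop : (Nat.card A).Coprime 2) :
    ∀ (n : ℕ) (H : Subgroup G), Nat.card H = n → IsPGroup 2 H → A ≤ normalizer (H : Set G) →
      (∀ x ∈ H, x ^ 4 = 1 → ∀ a ∈ A, a * x = x * a) → A ≤ centralizer (H : Set G) := by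
  intro n
  induction n using Nat.strong_induction_on with
  | _ n ih =>
  intro H hHn hH hA hfix
  have hcopH : ∀ K : Subgroup G, K ≤ H → (Nat.card A).Coprime (Nat.card K) := by
    intro K hK
    obtain ⟨m, hm⟩ := IsPGroup.iff_card.1 (hH.to_le hK)
    rw [hm]; exact hcop.pow_right m
  -- proper A-invariant subgroups are centralized
  have hprop : ∀ K : Subgroup G, K ≤ H → K ≠ H → A ≤ normalizer (K : Set G) → ⁅K, A⁆ = ⊥ := by
    intro K hK hne hAK
    have hlt : Nat.card K < n := by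
      rw [← hHn]
      refine lt_of_le_of_ne (Nat.card_le_card_of_injective _ (Subgroup.inclusion_injective hK)) ?_
      intro h
      exact hne (Subgroup.eq_of_le_of_card_ge hK h.ge)
    have := ih _ hlt K rfl (hH.to_le hK) hAK (fun x hx => hfix x (hK hx))
    rw [Subgroup.commutator_comm]
    exact Subgroup.commutator_eq_bot_iff_le_centralizer.2 this
  suffices h : ⁅H, A⁆ = ⊥ by
    rw [Subgroup.commutator_comm] at h
    exact Subgroup.commutator_eq_bot_iff_le_centralizer.1 h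
  by_contra hcon
  have hHA : ⁅H, A⁆ ≤ H := Subgroup.le_normalizer_iff_commutator_le_left.1 hA
  have hHAeq : ⁅H, A⁆ = H := by
    by_contra hne
    exact hcon (BG.commutator_eq_bot_of_comm_comm hA (hcopH H le_rfl)
      (hprop _ hHA hne (Subgroup.normalizer_commutator_ge_right H A)))
  have : Nontrivial H := by
    rw [Subgroup.nontrivial_iff_ne_bot]
    rintro rfl
    exact hcon (Subgroup.commutator_bot_left A)
  obtain ⟨M, hMn, hMi, hMp, hMc⟩ := BG.exists_index_p (p := 2) hH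
  have hMlt : M.map H.subtype ≠ H := by
    intro h
    have : M = ⊤ := by
      rw [eq_top_iff]
      intro x _
      have hx : (x : G) ∈ M.map H.subtype := by rw [h]; exact x.2
      obtain ⟨y, hy, hyx⟩ := Subgroup.mem_map.1 hx
      have : y = x := Subtype.ext hyx
      exact this ▸ hy
    rw [this, Subgroup.index_top] at hMi
    omega
  set D := ⁅H, H⁆ with hD
  have hDM : D ≤ M.map H.subtype := by
    rw [hD, Subgroup.commutator_le]
    intro x hx y hy
    exact ⟨_, hMc ⟨x, hx⟩ ⟨y, hy⟩, rfl⟩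
  have hDH : D ≤ H := Subgroup.commutator_le_self H
  have hDne : D ≠ H := fun h => hMlt (le_antisymm (Subgroup.map_subtype_le M) (h.symm.le.trans hDM))
  have hAD : A ≤ normalizer (D : Set G) := by
    intro a ha
    have hmap : D.map (MulAut.conj a).toMonoidHom = D := by
      rw [hD, Subgroup.map_commutator, mem_normalizer_iff_map_conj.1 (hA ha)]
    exact mem_normalizer_iff_map_conj.2 hmap
  have hDA : ⁅D, A⁆ = ⊥ := hprop D hDH hDne hAD
  -- class 2
  have hHD : ⁅H, D⁆ = ⊥ := by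
    have h1 : ⁅⁅D, A⁆, H⁆ = ⊥ := by rw [hDA, Subgroup.commutator_bot_left]
    have h2 : ⁅⁅H, D⁆, A⁆ = ⊥ := by
      have : ⁅H, D⁆ ≤ D := by
        rw [hD]; exact Subgroup.commutator_mono le_rfl hDH
      exact le_bot_iff.1 ((Subgroup.commutator_mono this le_rfl).trans hDA.le)
    have h3 : ⁅⁅A, H⁆, D⁆ = ⊥ := Subgroup.commutator_commutator_eq_bot_of_rotate h2 h1
    rwa [Subgroup.commutator_comm A H, hHAeq] at h3
  -- the subgroup generated by squares
  set P := Subgroup.closure {y : G | ∃ x ∈ H, y = x ^ 2} with hP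
  have hPM : P ≤ M.map H.subtype := by
    rw [hP, Subgroup.closure_le]
    rintro y ⟨x, hx, rfl⟩
    exact ⟨_, hMp ⟨x, hx⟩, rfl⟩
  have hPH : P ≤ H := hPM.trans (Subgroup.map_subtype_le M)
  have hPne : P ≠ H := fun h => hMlt (le_antisymm (Subgroup.map_subtype_le M) (h.symm.le.trans hPM))
  have hPA : ⁅P, A⁆ = ⊥ := hprop P hPH hPne (BG.normalizer_closure_pow hA 2)
  have hHP : ⁅H, P⁆ = ⊥ := by
    have h1 : ⁅⁅P, A⁆, H⁆ = ⊥ := by rw [hPA, Subgroup.commutator_bot_left]
    have h2 : ⁅⁅H, P⁆, A⁆ = ⊥ := by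
      have : ⁅H, P⁆ ≤ D := by
        rw [hD]; exact Subgroup.commutator_mono le_rfl hPH
      exact le_bot_iff.1 ((Subgroup.commutator_mono this le_rfl).trans hDA.le)
    have h3 : ⁅⁅A, H⁆, P⁆ = ⊥ := Subgroup.commutator_commutator_eq_bot_of_rotate h2 h1
    rwa [Subgroup.commutator_comm A H, hHAeq] at h3
  have hcen : ∀ d ∈ D, ∀ x ∈ H, d * x = x * d := by
    intro d hd x hx
    have := Subgroup.commutator_eq_bot_iff_le_centralizer.1 hHD hx
    rw [Subgroup.mem_centralizer_iff] at this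
    exact this d hd
  have hcenP : ∀ y ∈ P, ∀ x ∈ H, y * x = x * y := by
    intro d hd x hx
    have := Subgroup.commutator_eq_bot_iff_le_centralizer.1 hHP hx
    rw [Subgroup.mem_centralizer_iff] at this
    exact this d hd
  -- `(x y)^4 = x^4 y^4` and `(x y)^2 = x^2 y^2 z` with `z` an involution of `D`
  have hmul : ∀ x ∈ H, ∀ y ∈ H, (x * y) ^ 4 = (x ^ 2 * y ^ 2) ^ 2 := by
    intro x hx y hy
    set z := ⁅x⁻¹, y⁻¹⁆⁻¹ with hz
    have hzD : z ∈ D := inv_mem (Subgroup.commutator_mem_commutator (inv_mem hx) (inv_mem hy))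
    have e : y * x = x * y * z := by
      rw [hz, commutatorElement_def]; group
    have hzx : Commute z x := hcen z hzD x hx
    have hzy : Commute z y := hcen z hzD y hy
    have hzp : z ^ 2 = 1 := by
      have h1 := BG.pow_mul_of_comm e hzy 2
      have h2 : y ^ 2 * x = x * y ^ 2 := hcenP _ (Subgroup.subset_closure ⟨y, hy, rfl⟩) x hx
      rw [h2] at h1
      have : x * y ^ 2 * 1 = x * y ^ 2 * z ^ 2 := by rw [mul_one, ← h1]
      exact (mul_left_cancel this).symm
    have h2 := BG.mul_pow_of_comm e hzx hzy 2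
    have hch : (2 : ℕ).choose 2 = 1 := by norm_num
    rw [hch, pow_one] at h2
    have h4 : (x * y) ^ 4 = ((x * y) ^ 2) ^ 2 := by rw [← pow_mul]
    rw [h4, h2]
    have hcz : Commute (x ^ 2 * y ^ 2) z := ((hzx.pow_right 2).mul_right (hzy.pow_right 2)).symm
    rw [hcz.mul_pow, hzp, mul_one]
  have hfinal : ⁅⁅H, A⁆, A⁆ = ⊥ := by
    rw [Subgroup.commutator_eq_bot_iff_le_centralizer, Subgroup.commutator_le]
    intro x hx a ha
    rw [Subgroup.mem_centralizer_iff]
    intro b hb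
    have hxa : a * x⁻¹ * a⁻¹ ∈ H := (Subgroup.mem_normalizer_iff.1 (hA ha) x⁻¹).1 (inv_mem hx)
    have e : ⁅x, a⁆ = x * (a * x⁻¹ * a⁻¹) := by rw [commutatorElement_def]; group
    have h1 : ⁅x, a⁆ ^ 4 = 1 := by
      rw [e, hmul x hx _ hxa, conj_pow]
      have h2 : a * (x ^ 2) = x ^ 2 * a := by
        have h3 := Subgroup.commutator_eq_bot_iff_le_centralizer.1 hPA
          (Subgroup.subset_closure ⟨x, hx, rfl⟩ : x ^ 2 ∈ P)
        rw [Subgroup.mem_centralizer_iff] at h3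
        exact h3 a ha
      have h4 : a * (x⁻¹) ^ 2 * a⁻¹ = (x ^ 2)⁻¹ := by
        rw [inv_pow]
        calc a * (x ^ 2)⁻¹ * a⁻¹ = (a * (x ^ 2) * a⁻¹)⁻¹ := by group
          _ = (x ^ 2 * a * a⁻¹)⁻¹ := by rw [h2]
          _ = (x ^ 2)⁻¹ := by group
      rw [h4, mul_inv_cancel, one_pow]
    exact hfix _ (by rw [e]; exact mul_mem hx hxa) h1 b hb
  exact hcon (BG.commutator_eq_bot_of_comm_comm hA (hcopH H le_rfl) hfinal)

/-- If every prime-power order `p'`-element of a subgroup `N` lies in `C` then so does every `p'`-element. -/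
theorem mem_of_primePow {p : ℕ} {N C : Subgroup G}
    (h : ∀ r : ℕ, r.Prime → r ≠ p → ∀ n ∈ N, IsPGroup r ↥(zpowers n) → n ∈ C) :
    ∀ (m : ℕ) (g : G), orderOf g = m → g ∈ N → (orderOf g).Coprime p → g ∈ C := by
  intro m
  induction m using Nat.strong_induction_on with
  | _ m ih =>
  intro g hgm hg hcop
  by_cases hm1 : m = 1
  · rw [hm1, orderOf_eq_one_iff] at hgm
    rw [hgm]; exact C.one_mem
  obtain ⟨r, hr, hrm⟩ := Nat.exists_prime_and_dvd hm1
  have : Fact r.Prime := ⟨hr⟩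
  have hrp : r ≠ p := by
    rintro rfl
    rw [hgm] at hcop
    exact hr.one_lt.ne' (Nat.eq_one_of_dvd_coprimes hcop hrm dvd_rfl)
  have hm0 : m ≠ 0 := by rw [← hgm]; exact (orderOf_pos g).ne'
  obtain ⟨k, t, hrt, hmt⟩ := Nat.exists_eq_pow_mul_and_not_dvd hm0 r hr.ne_one
  have hk : k ≠ 0 := by
    rintro rfl
    rw [pow_zero, one_mul] at hmt
    exact hrt (hmt ▸ hrm)
  have hco : (r ^ k).Coprime t := Nat.Coprime.pow_left k ((Nat.Prime.coprime_iff_not_dvd hr).2 hrt)
  -- `g ^ t` is an `r`-element, `g ^ (r^k)` has smaller order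
  have h1 : g ^ t ∈ C := by
    apply h r hr hrp _ (N.pow_mem hg t)
    have : (g ^ t) ^ r ^ k = 1 := by
      rw [← pow_mul, mul_comm, ← hmt, ← hgm, pow_orderOf_eq_one]
    rw [IsPGroup.iff_card]
    obtain ⟨j, -, hj⟩ := (Nat.dvd_prime_pow hr).1 (orderOf_dvd_of_pow_eq_one this)
    exact ⟨j, by rw [Nat.card_zpowers, hj]⟩
  have h2 : g ^ (r ^ k) ∈ C := by
    have ht : (g ^ (r ^ k)) ^ t = 1 := by rw [← pow_mul, ← hmt, ← hgm, pow_orderOf_eq_one]
    have ht0 : t ≠ 0 := by rintro rfl; exact hrt (dvd_zero r)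
    have hle : orderOf (g ^ r ^ k) ≤ t := Nat.le_of_dvd (Nat.pos_of_ne_zero ht0) (orderOf_dvd_of_pow_eq_one ht)
    have hlt : t < m := by
      rw [hmt]
      have : 1 < r ^ k := Nat.one_lt_pow hk hr.one_lt
      nlinarith [Nat.pos_of_ne_zero ht0]
    refine ih _ (lt_of_le_of_lt hle hlt) _ rfl (N.pow_mem hg _) ?_
    exact Nat.Coprime.coprime_dvd_left (orderOf_pow_dvd _) hcop
  -- combine
  have h3 : IsCoprime (r ^ k : ℤ) (t : ℤ) := by
    have := Nat.isCoprime_iff_coprime.2 hco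
    push_cast at this
    exact this
  obtain ⟨a, b, hab⟩ := h3
  have : g = (g ^ (r ^ k)) ^ a * (g ^ t) ^ b := by
    conv_lhs => rw [← zpow_one g, ← hab]
    rw [zpow_add, mul_comm a, mul_comm b, zpow_mul, zpow_mul]
    congr 2
    · rw [← zpow_natCast]; push_cast; rfl
    · rw [zpow_natCast]
  rw [this]
  exact C.mul_mem (C.zpow_mem h2 a) (C.zpow_mem h1 b)

end Cfsg.Agent.H50
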