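import Cfsg.Agent.H50.PAut
import Cfsg.Agent.Supersolvable.Hereditary
import Cfsg.Agent.Transfer.NPC
import Cfsg.Agent.Solv.MinNormal
import Mathlib.FieldTheory.Finite.GaloisField
import Mathlib.LinearAlgebra.Eigenspace.Minpoly
import Mathlib.Algebra.Module.ZMod

/-!
Supersolvability from a normal `p`-subgroup all of whose subgroups of a fixed order are normal.  (helper50)
-/

set_option autoImplicit false
open scoped commutatorElement

namespace Cfsg.Agent.H50.SSolv

open Subgroup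

universe u

section Eigen

open Polynomial

theorem exists_eigen {p : ℕ} [Fact p.Prime] {V : Type*} [AddCommGroup V] [Module (ZMod p) V] [Finite V]
    [Nontrivial V] (f : Module.End (ZMod p) V) (hf : f ^ p = f) :
    ∃ (a : ZMod p) (v : V), v ≠ 0 ∧ f v = a • v := by
  have h1 : minpoly (ZMod p) f ∣ (X ^ p - X : (ZMod p)[X]) := by
    apply minpoly.dvd
    simp [hf]
  have hne : (X ^ p - X : (ZMod p)[X]) ≠ 0 :=
    FiniteField.X_pow_card_sub_X_ne_zero _ (Fact.out : p.Prime).one_lt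
  have h2 : (X ^ p - X : (ZMod p)[X]).Splits := GaloisField.splits_zmod_X_pow_sub_X p
  have h3 := h2.of_dvd hne h1
  have hint : IsIntegral (ZMod p) f := Algebra.IsIntegral.isIntegral f
  have h4 := h3.exists_eval_eq_zero (minpoly.degree_pos hint).ne'
  obtain ⟨a, ha⟩ := h4
  have h5 := Module.End.hasEigenvalue_of_isRoot (f := f) (μ := a) ha
  obtain ⟨v, hv⟩ := h5.exists_hasEigenvector
  exact ⟨a, v, hv.2, hv.apply_eq_smul⟩

theorem exists_eigen_add' {p : ℕ} [Fact p.Prime] {V : Type*} [AddCommGroup V] [Module (ZMod p) V] [Finite V]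
    [Nontrivial V] (f : V →+ V) (hf : ∀ x, f^[p] x = f x) :
    ∃ (k : ℕ) (x : V), x ≠ 0 ∧ f x = k • x := by
  obtain ⟨F, hFdef⟩ : ∃ F : V →ₗ[ZMod p] V, ∀ x : V, F x = f x :=
    ⟨AddMonoidHom.toZModLinearMap p f, fun _ => rfl⟩
  have hF : (F : Module.End (ZMod p) V) ^ p = F := by
    apply LinearMap.ext
    intro x
    rw [Module.End.pow_apply]
    have : ∀ (n : ℕ) (x : V), F^[n] x = f^[n] x := by
      intro n
      induction n with
      | zero => intro x; rfl
      | succ n ih =>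
        intro x
        rw [Function.iterate_succ_apply, ih, Function.iterate_succ_apply, hFdef]
    rw [this, hf, hFdef]
  obtain ⟨a, v, hv, hav⟩ := exists_eigen F hF
  refine ⟨a.val, v, hv, ?_⟩
  have h1 : a • v = a.val • v := by
    conv_lhs => rw [← ZMod.natCast_zmod_val a]
    rw [Nat.cast_smul_eq_nsmul]
  rw [h1, hFdef] at hav
  exact hav

theorem exists_eigen_add {p : ℕ} [Fact p.Prime] {V : Type*} [AddCommGroup V] [Finite V] [Nontrivial V]
    (hV : ∀ x : V, p • x = 0) (f : V →+ V) (hf : ∀ x, f^[p] x = f x) :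
    ∃ (k : ℕ) (x : V), x ≠ 0 ∧ f x = k • x :=
  @exists_eigen_add' p _ V _ (AddCommGroup.zmodModule hV) _ _ f hf

/-- Multiplicative form: an endomorphism `f` with `f^p = f` of an elementary abelian `p`-group has an
eigenvector. -/
theorem exists_eigen_mul {p : ℕ} [Fact p.Prime] {W : Type*} [CommGroup W] [Finite W] [Nontrivial W]
    (hW : ∀ x : W, x ^ p = 1) (f : W →* W) (hf : ∀ x, f^[p] x = f x) :
    ∃ (k : ℕ) (x : W), x ≠ 1 ∧ f x = x ^ k :=
  exists_eigen_add (V := Additive W) hW (MonoidHom.toAdditive f) hf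

end Eigen

variable {G : Type*} [Group G]

theorem mk'_eq_mk'_iff {M X : Subgroup G} [(M.subgroupOf X).Normal] {a b : X} :
    QuotientGroup.mk' (M.subgroupOf X) a = QuotientGroup.mk' (M.subgroupOf X) b ↔ (a : G)⁻¹ * b ∈ M := by
  rw [QuotientGroup.mk'_eq_mk', ]
  constructor
  · rintro ⟨z, hz, rfl⟩
    have : ((a : G))⁻¹ * ((a * z : X) : G) = z := by push_cast; group
    rw [this]
    exact mem_subgroupOf.1 hz
  · intro h
    exact ⟨a⁻¹ * b, mem_subgroupOf.2 (by push_cast; exact h), by group⟩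

/-- The action of `g` on a section of prime order is a power map. -/
theorem exists_conj_pow {p : ℕ} [Fact p.Prime] {M X : Subgroup G} (hX : X.Normal)
    (hM : M.Normal) (hMX : M ≤ X) (hi : M.relIndex X = p) (g : G) :
    ∃ k : ℕ, ∀ y (hy : y ∈ X),
      QuotientGroup.mk' (M.subgroupOf X) ⟨g * y * g⁻¹, hX.conj_mem y hy g⟩ =
        QuotientGroup.mk' (M.subgroupOf X) ⟨y, hy⟩ ^ k := by
  have hp : p.Prime := Fact.out
  have hcard : Nat.card (X ⧸ M.subgroupOf X) = p := hi
  set π := QuotientGroup.mk' (M.subgroupOf X) with hπ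
  -- an element outside `M`
  obtain ⟨x, hx, hxM⟩ : ∃ x ∈ X, x ∉ M := by
    by_contra hcon
    push Not at hcon
    rw [relIndex_eq_one.2 hcon] at hi
    exact hp.one_lt.ne hi
  have hπx : π ⟨x, hx⟩ ≠ 1 := by
    intro h
    rw [← map_one π] at h
    have := mk'_eq_mk'_iff.1 h
    apply hxM
    have h2 := M.inv_mem this
    simpa using h2
  have hpow : ∀ y : X ⧸ M.subgroupOf X, ∃ k : ℕ, π ⟨x, hx⟩ ^ k = y := by
    intro y
    exact (Submonoid.mem_powers_iff _ _).1 (mem_powers_of_prime_card hcard hπx)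
  obtain ⟨k, hk⟩ := hpow (π ⟨g * x * g⁻¹, hX.conj_mem x hx g⟩)
  refine ⟨k, fun y hy => ?_⟩
  obtain ⟨i, hi'⟩ := hpow (π ⟨y, hy⟩)
  have hl : (x ^ i)⁻¹ * y ∈ M := by
    rw [← map_pow] at hi'
    have := mk'_eq_mk'_iff.1 hi'
    simpa using this
  have h4 : (⟨g * y * g⁻¹, hX.conj_mem y hy g⟩ : X) = ⟨g * x * g⁻¹, hX.conj_mem x hx g⟩ ^ i *
      ⟨g * ((x ^ i)⁻¹ * y) * g⁻¹, hMX (hM.conj_mem _ hl g)⟩ := by
    apply Subtype.ext
    show g * y * g⁻¹ = ((⟨g * x * g⁻¹, hX.conj_mem x hx g⟩ ^ i : X) : G) * (g * ((x ^ i)⁻¹ * y) * g⁻¹)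
    rw [SubmonoidClass.coe_pow, conj_pow]
    group
  have h5 : π ⟨g * ((x ^ i)⁻¹ * y) * g⁻¹, hMX (hM.conj_mem _ hl g)⟩ = 1 := by
    rw [← map_one π]
    apply mk'_eq_mk'_iff.2
    have := M.inv_mem (hM.conj_mem _ hl g)
    simpa using this
  rw [h4, map_mul, h5, mul_one, map_pow, ← hk, ← pow_mul, mul_comm k i, pow_mul, hi']

/-- Elements acting trivially on all `G`-invariant sections of order `p` inside `P`. -/
def actCore (p : ℕ) (P : Subgroup G) : Subgroup G where
  carrier := {g | ∀ M X : Subgroup G, M.Normal → X.Normal → M ≤ X → X ≤ P → M.relIndex X = p →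
    ∀ x ∈ X, x⁻¹ * (g * x * g⁻¹) ∈ M}
  one_mem' := by
    intro M X _ _ _ _ _ x _
    simp
  mul_mem' := by
    intro g h hg hh M X hM hX hMX hXP hi x hx
    have h1 := hg M X hM hX hMX hXP hi x hx
    have h2 := hh M X hM hX hMX hXP hi x hx
    have h3 := M.mul_mem h1 (hM.conj_mem _ h2 g)
    have e : x⁻¹ * (g * h * x * (g * h)⁻¹) = x⁻¹ * (g * x * g⁻¹) * (g * (x⁻¹ * (h * x * h⁻¹)) * g⁻¹) := by
      group
    rw [e]; exact h3
  inv_mem' := by
    intro g hg M X hM hX hMX hXP hi x hx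
    have h1 := hg M X hM hX hMX hXP hi (g⁻¹ * x * g) (by
      have := hX.conj_mem x hx g⁻¹
      rwa [inv_inv] at this)
    have h2 := M.inv_mem h1
    have e : x⁻¹ * (g⁻¹ * x * g⁻¹⁻¹) = ((g⁻¹ * x * g)⁻¹ * (g * (g⁻¹ * x * g) * g⁻¹))⁻¹ := by group
    rw [e]; exact h2

instance actCore_normal (p : ℕ) (P : Subgroup G) : (actCore p P).Normal := by
  constructor
  intro g hg h M X hM hX hMX hXP hi x hx
  have h1 := hg M X hM hX hMX hXP hi (h⁻¹ * x * h) (by
      have := hX.conj_mem x hx h⁻¹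
      rwa [inv_inv] at this)
  have h2 := hM.conj_mem _ h1 h
  have e : x⁻¹ * (h * g * h⁻¹ * x * (h * g * h⁻¹)⁻¹) =
      h * ((h⁻¹ * x * h)⁻¹ * (g * (h⁻¹ * x * h) * g⁻¹)) * h⁻¹ := by group
  rw [e]; exact h2

theorem commutator_le_actCore (p : ℕ) [Fact p.Prime] (P : Subgroup G) : commutator G ≤ actCore p P := by
  rw [commutator_def, commutator_le]
  intro g _ h _ M X hM hX hMX hXP hi x hx
  obtain ⟨k, hk⟩ := exists_conj_pow hX hM hMX hi g
  obtain ⟨l, hl⟩ := exists_conj_pow hX hM hMX hi h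
  set y := (h * g)⁻¹ * x * (h * g) with hy
  have hyX : y ∈ X := by
    have := hX.conj_mem x hx (h * g)⁻¹
    rwa [inv_inv] at this
  have h1 := hk (h * y * h⁻¹) (hX.conj_mem y hyX h)
  rw [hl y hyX, ← pow_mul] at h1
  have h2 := hl (g * y * g⁻¹) (hX.conj_mem y hyX g)
  rw [hk y hyX, ← pow_mul, mul_comm k l, ← h1] at h2
  have h3 := mk'_eq_mk'_iff.1 h2
  have e : x⁻¹ * (⁅g, h⁆ * x * ⁅g, h⁆⁻¹) = (h * (g * y * g⁻¹) * h⁻¹)⁻¹ * (g * (h * y * h⁻¹) * g⁻¹) := by
    rw [hy, commutatorElement_def]; group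
  rw [e]; exact h3

theorem pow_mem_actCore (p : ℕ) [Fact p.Prime] (P : Subgroup G) (g : G) : g ^ (p - 1) ∈ actCore p P := by
  have hp : p.Prime := Fact.out
  intro M X hM hX hMX hXP hi x hx
  obtain ⟨k, hk⟩ := exists_conj_pow hX hM hMX hi g
  have hcard : Nat.card (X ⧸ M.subgroupOf X) = p := hi
  have hpow : ∀ y : X ⧸ M.subgroupOf X, y ^ p = 1 := by
    intro y
    rw [← hcard]; exact pow_card_eq_one'
  have hiter : ∀ (j : ℕ) (y : G) (hy : y ∈ X),
      QuotientGroup.mk' (M.subgroupOf X) ⟨g ^ j * y * (g ^ j)⁻¹, hX.conj_mem y hy (g ^ j)⟩ =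
        QuotientGroup.mk' (M.subgroupOf X) ⟨y, hy⟩ ^ (k ^ j) := by
    intro j y hy
    induction j with
    | zero => simp
    | succ j ih =>
      have h1 : (⟨g ^ (j + 1) * y * (g ^ (j + 1))⁻¹, hX.conj_mem y hy (g ^ (j + 1))⟩ : X) =
          ⟨g * (g ^ j * y * (g ^ j)⁻¹) * g⁻¹, hX.conj_mem _ (hX.conj_mem y hy (g ^ j)) g⟩ := by
        apply Subtype.ext
        show g ^ (j + 1) * y * (g ^ (j + 1))⁻¹ = g * (g ^ j * y * (g ^ j)⁻¹) * g⁻¹
        rw [pow_succ']; group
      rw [h1, hk _ (hX.conj_mem y hy (g ^ j)), ih, ← pow_mul, ← pow_succ]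
  have hkne : (k : ZMod p) ≠ 0 := by
    intro h0
    rw [ZMod.natCast_eq_zero_iff] at h0
    obtain ⟨m, rfl⟩ := h0
    -- then everything in `X` is in `M`
    have : ∀ y ∈ X, y ∈ M := by
      intro y hy
      have h1 := hk y hy
      rw [pow_mul, hpow, one_pow, ← map_one (QuotientGroup.mk' (M.subgroupOf X))] at h1
      have h2 := mk'_eq_mk'_iff.1 h1
      have h3 : g * y * g⁻¹ ∈ M := by
        have := M.inv_mem h2
        simpa using this
      have h4 := hM.conj_mem _ h3 g⁻¹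
      simpa [mul_assoc] using h4
    rw [relIndex_eq_one.2 this] at hi
    exact hp.one_lt.ne hi
  have h1 := hiter (p - 1) x hx
  have h2 : QuotientGroup.mk' (M.subgroupOf X) ⟨x, hx⟩ ^ (k ^ (p - 1)) =
      QuotientGroup.mk' (M.subgroupOf X) ⟨x, hx⟩ := by
    have h3 : (k ^ (p - 1) : ℕ) ≡ 1 [MOD p] := by
      rw [← ZMod.natCast_eq_natCast_iff]
      push_cast
      exact ZMod.pow_card_sub_one_eq_one hkne
    conv_rhs => rw [← pow_one (QuotientGroup.mk' (M.subgroupOf X) ⟨x, hx⟩)]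
    rw [pow_eq_pow_iff_modEq]
    exact h3.of_dvd (orderOf_dvd_of_pow_eq_one (hpow _))
  rw [h2] at h1
  exact mk'_eq_mk'_iff.1 h1.symm

theorem exists_minNormal {G : Type*} [Group G] [Finite G] {K : Subgroup G} (hK : K.Normal) (hK1 : K ≠ ⊥) :
    ∃ N ≤ K, N.Normal ∧ N ≠ ⊥ ∧ ∀ L : Subgroup G, L.Normal → L ≤ N → L = ⊥ ∨ L = N := by
  obtain ⟨M, hM⟩ := (Set.toFinite {N : Subgroup G | N.Normal ∧ N ≠ ⊥ ∧ N ≤ K}).exists_minimal
    ⟨K, hK, hK1, le_rfl⟩
  refine ⟨M, hM.prop.2.2, hM.prop.1, hM.prop.2.1, fun L hL hLM => ?_⟩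
  by_cases h : L = ⊥
  · exact Or.inl h
  · right
    exact le_antisymm hLM (hM.le_of_le ⟨hL, h, hLM.trans hM.prop.2.2⟩ hLM)

/-- A minimal normal `p`-subgroup centralized by `C`, where `G / C` is abelian of exponent dividing `p - 1`,
is cyclic. -/
theorem isCyclic_of_minNormal {G : Type*} [Group G] [Finite G] {p : ℕ} [Fact p.Prime] {W C : Subgroup G}
    (hWn : W.Normal) (hW1 : W ≠ ⊥) (hmin : ∀ L : Subgroup G, L.Normal → L ≤ W → L = ⊥ ∨ L = W)
    (hWp : IsPGroup p ↥W) (hWC : W ≤ centralizer (C : Set G)) (hcomm : commutator G ≤ C)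
    (hpow : ∀ g : G, g ^ (p - 1) ∈ C) : IsCyclic ↥W := by
  have hp : p.Prime := Fact.out
  have hnil : Group.IsNilpotent ↥W := hWp.isNilpotent
  obtain ⟨hWc, r, hr, hWr⟩ := Solv.minimal_normal_of_solvable W inferInstance hW1 hmin
  obtain ⟨x₀, hx₀, hx₀1⟩ : ∃ x ∈ W, x ≠ 1 := by
    by_contra hcon
    push Not at hcon
    exact hW1 ((eq_bot_iff_forall _).2 hcon)
  have hrp : r = p := by
    obtain ⟨k, hk⟩ := hWp.exists_card_eq
    have h1 : orderOf x₀ ∣ p ^ k := by
      rw [← hk]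
      have := orderOf_dvd_natCard (⟨x₀, hx₀⟩ : W)
      rwa [orderOf_mk] at this
    have h2 : orderOf x₀ = r := by
      have : Fact r.Prime := ⟨hr⟩
      exact orderOf_eq_prime (hWr x₀ hx₀) hx₀1
    rw [h2] at h1
    exact (Nat.prime_dvd_prime_iff_eq hr hp).1 (hr.dvd_of_dvd_pow h1)
  subst hrp
  have hcomm' : ∀ x ∈ W, ∀ y ∈ W, x * y = y * x := fun x hx y hy => Solv.comm_of_isMulCommutative hWc hx hy
  -- `G` acts by power maps
  have key : ∀ g : G, ∃ k : ℕ, ∀ x ∈ W, g * x * g⁻¹ = x ^ k := by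
    intro g
    let _ : CommGroup W := { (inferInstance : Group W) with mul_comm := fun a b => Subtype.ext (hcomm' a a.2 b b.2) }
    have : Nontrivial W := (nontrivial_iff_ne_bot W).2 hW1
    let f : W →* W :=
      { toFun := fun x => ⟨g * x * g⁻¹, hWn.conj_mem x x.2 g⟩
        map_one' := Subtype.ext (by simp)
        map_mul' := fun a b => Subtype.ext (by simp) }
    have hiter : ∀ (n : ℕ) (x : W), ((f^[n] x : W) : G) = g ^ n * x * (g ^ n)⁻¹ := by
      intro n
      induction n with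
      | zero => intro x; simp
      | succ n ih =>
        intro x
        rw [Function.iterate_succ_apply', ]
        show g * ((f^[n] x : W) : G) * g⁻¹ = _
        rw [ih, pow_succ']
        group
    have hf : ∀ x, f^[r] x = f x := by
      intro x
      apply Subtype.ext
      rw [hiter]
      show g ^ r * x * (g ^ r)⁻¹ = g * x * g⁻¹
      have h1 : g ^ r = g * g ^ (r - 1) := by
        rw [← pow_succ', Nat.sub_add_cancel hp.one_lt.le]
      have h2 : g ^ (r - 1) * (x : G) = x * g ^ (r - 1) :=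
        mem_centralizer_iff.1 (hWC x.2) _ (hpow g)
      rw [h1]
      calc g * g ^ (r - 1) * x * (g * g ^ (r - 1))⁻¹ = g * (g ^ (r - 1) * x) * (g ^ (r - 1))⁻¹ * g⁻¹ := by group
        _ = g * (x * g ^ (r - 1)) * (g ^ (r - 1))⁻¹ * g⁻¹ := by rw [h2]
        _ = g * x * g⁻¹ := by group
    obtain ⟨k, x, hx1, hxk⟩ := exists_eigen_mul (p := r) (W := W) (fun x => Subtype.ext (by
      show (x : G) ^ r = 1
      exact hWr x x.2)) f hf
    refine ⟨k, ?_⟩
    -- the eigenspace
    let E : Subgroup G :=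
      { carrier := {y | y ∈ W ∧ g * y * g⁻¹ = y ^ k}
        one_mem' := ⟨W.one_mem, by simp⟩
        mul_mem' := by
          rintro a b ⟨ha, ha'⟩ ⟨hb, hb'⟩
          refine ⟨W.mul_mem ha hb, ?_⟩
          have h1 : (a * b) ^ k = a ^ k * b ^ k := (show Commute a b from hcomm' a ha b hb).mul_pow k
          rw [h1, ← ha', ← hb']
          group
        inv_mem' := by
          rintro a ⟨ha, ha'⟩
          refine ⟨W.inv_mem ha, ?_⟩
          rw [inv_pow, ← ha']
          group }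
    have hEn : E.Normal := by
      constructor
      rintro y ⟨hy, hy'⟩ h
      refine ⟨hWn.conj_mem y hy h, ?_⟩
      -- `g h = h g c` with `c = [g⁻¹, h⁻¹] ∈ C`
      have hc : ⁅g⁻¹, h⁻¹⁆ ∈ C := hcomm (commutator_mem_commutator (mem_top _) (mem_top _))
      have h1 : g * h = h * g * ⁅g⁻¹, h⁻¹⁆ := by rw [commutatorElement_def]; group
      have h2 : ⁅g⁻¹, h⁻¹⁆ * y = y * ⁅g⁻¹, h⁻¹⁆ := mem_centralizer_iff.1 (hWC hy) _ hc
      rw [conj_pow, ← hy']
      calc g * (h * y * h⁻¹) * g⁻¹ = (g * h) * y * (g * h)⁻¹ := by group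
        _ = h * g * (⁅g⁻¹, h⁻¹⁆ * y) * ⁅g⁻¹, h⁻¹⁆⁻¹ * g⁻¹ * h⁻¹ := by rw [h1]; group
        _ = h * g * (y * ⁅g⁻¹, h⁻¹⁆) * ⁅g⁻¹, h⁻¹⁆⁻¹ * g⁻¹ * h⁻¹ := by rw [h2]
        _ = _ := by group
    have hEW : E = W := by
      rcases hmin E hEn (fun y hy => hy.1) with h | h
      · exfalso
        apply hx1
        have hxE : (x : G) ∈ E := ⟨x.2, by
          have := congrArg (Subtype.val) hxk
          rw [SubmonoidClass.coe_pow] at this
          exact this⟩
        rw [h, mem_bot] at hxE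
        exact Subtype.ext hxE
      · exact h
    intro y hy
    rw [← hEW] at hy
    exact hy.2
  have hzn : (zpowers x₀).Normal := by
    constructor
    intro y hy g
    obtain ⟨k, hk⟩ := key g
    rw [hk y ((zpowers_le.2 hx₀) hy)]
    exact pow_mem hy k
  rcases hmin (zpowers x₀) hzn (zpowers_le.2 hx₀) with h | h
  · rw [zpowers_eq_bot] at h
    exact absurd h hx₀1
  · rw [← h]; infer_instance

/-- The main criterion. -/
theorem of_core (n : ℕ) : ∀ {G : Type u} [Group G] [Finite G], Nat.card G = n → ∀ (p : ℕ) [Fact p.Prime]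
    (P C : Subgroup G) [P.Normal] [C.Normal], IsPGroup p ↥P →
    (∀ g ∈ C, (orderOf g).Coprime p → g ∈ centralizer (P : Set G)) → commutator G ≤ C →
    (∀ g : G, g ^ (p - 1) ∈ C) → Cfsg.IsSupersolvable (G ⧸ P) → Cfsg.IsSupersolvable G := by
  induction n using Nat.strong_induction_on with
  | _ n ih =>
  intro G _ _ hn p _ P C _ _ hP hC hcomm hpow hss
  have hp : p.Prime := Fact.out
  by_cases hPbot : P = ⊥
  · subst hPbot
    exact Supersolvable.of_mulEquiv QuotientGroup.quotientBot hss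
  -- `P ⊓ C(C)` is nontrivial
  have hN₀ : P ⊓ centralizer (C : Set G) ≠ ⊥ := by
    let T : Sylow p C := default
    have hT : IsPGroup p ↥((T : Subgroup C).map C.subtype) := T.2.map _
    have h1 := Supersolvable.inf_centralizer_ne_bot ((T : Subgroup C).map C.subtype) P hT hP
      (by rw [normalizer_eq_top]; exact le_top) hPbot
    intro hbot
    apply h1
    rw [eq_bot_iff, ← hbot]
    refine le_inf inf_le_left ?_
    rintro x ⟨hxP, hxT⟩
    rw [mem_centralizer_iff]
    intro c hc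
    have h2 : (⟨c, hc⟩ : C) ∈ (T : Subgroup C) ⊔ Cfsg.pResidual p C := by
      rw [Transfer.sylow_sup_pResidual]; trivial
    have h3 : (T : Subgroup C) ⊔ Cfsg.pResidual p C ≤ (centralizer ({x} : Set G)).subgroupOf C := by
      apply sup_le
      · intro t ht
        rw [mem_subgroupOf, mem_centralizer_singleton_iff]
        exact (mem_centralizer_iff.1 hxT _ ⟨t, ht, rfl⟩)
      · rw [Cfsg.pResidual, closure_le]
        intro t ht
        rw [SetLike.mem_coe, mem_subgroupOf, mem_centralizer_singleton_iff]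
        have h4 := hC t t.2 (by rw [orderOf_coe]; exact ht)
        exact (mem_centralizer_iff.1 h4 x hxP).symm
    have h5 := h3 h2
    rw [mem_subgroupOf, mem_centralizer_singleton_iff] at h5
    exact h5
  obtain ⟨W, hWle, hWn, hW1, hmin⟩ := exists_minNormal (K := P ⊓ centralizer (C : Set G)) inferInstance hN₀
  have hWP : W ≤ P := hWle.trans inf_le_left
  have hWC : W ≤ centralizer (C : Set G) := hWle.trans inf_le_right
  have hcyc := isCyclic_of_minNormal (p := p) hWn hW1 hmin (hP.to_le hWP) hWC hcomm hpow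
  apply Supersolvable.of_isCyclic_normal W hcyc
  have hlt := Supersolvable.card_quotient_lt W hW1
  rw [hn] at hlt
  set f := QuotientGroup.mk' W with hf
  have hfs : Function.Surjective f := QuotientGroup.mk'_surjective W
  have hPn' : (P.map f).Normal := Normal.map inferInstance f hfs
  have hCn' : (C.map f).Normal := Normal.map inferInstance f hfs
  refine ih _ hlt (G := G ⧸ W) rfl p (P.map f) (C.map f) (hP.map f) ?_ ?_ ?_ ?_
  · rintro _ ⟨c, hc, rfl⟩ hcop
    obtain ⟨m, hm1, hm2⟩ := Transfer.exists_pow_lift p f c (orderOf_pos c).ne' hcop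
    have h1 := hC _ (C.pow_mem hc m) hm2
    rw [← hm1, mem_centralizer_iff]
    rintro _ ⟨x, hx, rfl⟩
    rw [← map_mul, ← map_mul, mem_centralizer_iff.1 h1 x hx]
  · have h1 := Subgroup.map_mono (f := f) hcomm
    have h2 : (commutator G).map f = commutator (G ⧸ W) := by
      rw [commutator_def, commutator_def, Subgroup.map_commutator, Subgroup.map_top_of_surjective f hfs]
    rwa [h2] at h1
  · intro g
    obtain ⟨g, rfl⟩ := hfs g
    exact ⟨g ^ (p - 1), hpow g, by simp⟩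
  · exact Supersolvable.of_mulEquiv (QuotientGroup.quotientQuotientEquivQuotient W P hWP).symm hss

end Cfsg.Agent.H50.SSolv
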